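import Mathlib

/-!
# Cyclicity of a module over a finite algebra descends along field extensions
-/

set_option autoImplicit false
universe u

open scoped TensorProduct

namespace Groth.Agent.Lib.PicFieldExt

theorem exists_span_singleton_eq_top {k k' R V : Type u} [Field k] [Field k'] [Algebra k k']
    [CommRing R] [Algebra k R] [Module.Finite k R] [AddCommGroup V] [Module k V] [Module R V]
    [IsScalarTower k R V] (e : k' ⊗[k] V)
    (he : Submodule.span k' (Set.range fun r : R => (Algebra.lsmul k k V r).baseChange k' e) = ⊤) :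
    ∃ v : V, Submodule.span R {v} = ⊤ := by
  classical
  let T : k' ⊗[k] R →ₗ[k'] k' ⊗[k] V := LinearMap.liftBaseChange k'
    { toFun := fun r => (Algebra.lsmul k k V r).baseChange k' e
      map_add' := fun a b => by rw [map_add, LinearMap.baseChange_add]; rfl
      map_smul' := fun a b => by rw [map_smul, LinearMap.baseChange_smul]; rfl }
  have hT : ∀ r, T (1 ⊗ₜ r) = (Algebra.lsmul k k V r).baseChange k' e := fun r => by simp [T]
  have hTs : Function.Surjective T := by
    rw [← LinearMap.range_eq_top, eq_top_iff, ← he, Submodule.span_le]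
    rintro _ ⟨r, rfl⟩
    exact ⟨1 ⊗ₜ r, hT r⟩
  haveI : Module.Finite k' (k' ⊗[k] V) := Module.Finite.of_surjective T hTs
  haveI : Module.Finite k V := Module.Finite.of_finite_tensorProduct_of_faithfullyFlat k'
  haveI : Module.Finite R V := Module.Finite.of_restrictScalars_finite k R V
  haveI : IsArtinianRing R := IsArtinianRing.of_finite k R
  haveI : Fintype (MaximalSpectrum R) := Fintype.ofFinite _
  have key : ∀ m : MaximalSpectrum R, ∃ v : V,
      (⊤ : Submodule R V) ≤ Submodule.span R {v} ⊔ m.asIdeal • (⊤ : Submodule R V) := by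
    intro m
    let N : Submodule R V := m.asIdeal • ⊤
    haveI := m.isMaximal
    letI : Field (R ⧸ m.asIdeal) := Ideal.Quotient.field _
    have htw : IsScalarTower k (R ⧸ m.asIdeal) (V ⧸ N) := by
      refine ⟨fun c x w => ?_⟩
      obtain ⟨r, rfl⟩ := Ideal.Quotient.mk_surjective x
      obtain ⟨v, rfl⟩ := Submodule.Quotient.mk_surjective _ w
      show Submodule.Quotient.mk ((c • r) • v) = c • Submodule.Quotient.mk (r • v)
      rw [smul_assoc]
      rfl
    let q : V →ₗ[k] V ⧸ N := N.mkQ.restrictScalars k
    let f : (R ⧸ m.asIdeal) →ₗ[k] k' ⊗[k] (V ⧸ N) :=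
      { toFun := fun x => (Algebra.lsmul k k (V ⧸ N) x).baseChange k' (q.baseChange k' e)
        map_add' := fun a b => by rw [map_add, LinearMap.baseChange_add]; rfl
        map_smul' := fun a b => by rw [map_smul, LinearMap.baseChange_smul]; rfl }
    let g := f.liftBaseChange k'
    have hq : ∀ r : R, q.baseChange k' ((Algebra.lsmul k k V r).baseChange k' e) =
        g (1 ⊗ₜ Ideal.Quotient.mk m.asIdeal r) := by
      intro r
      simp only [g, f, LinearMap.liftBaseChange_tmul, one_smul, LinearMap.coe_mk, AddHom.coe_mk]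
      rw [← LinearMap.comp_apply, ← LinearMap.baseChange_comp, ← LinearMap.comp_apply,
        ← LinearMap.baseChange_comp]
      rfl
    have hgs : Function.Surjective g := by
      have hqs : Function.Surjective (q.baseChange k') :=
        LinearMap.lTensor_surjective k' N.mkQ_surjective
      rw [← LinearMap.range_eq_top, eq_top_iff]
      rintro z -
      obtain ⟨y, rfl⟩ := hqs z
      have hy : y ∈ Submodule.span k' (Set.range fun r : R =>
          (Algebra.lsmul k k V r).baseChange k' e) := he ▸ Submodule.mem_top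
      induction hy using Submodule.span_induction with
      | mem _ h => obtain ⟨r, rfl⟩ := h; exact ⟨_, (hq r).symm⟩
      | zero => simp
      | add a b _ _ ha hb => rw [map_add]; exact add_mem ha hb
      | smul c a _ ha => rw [map_smul]; exact Submodule.smul_mem _ c ha
    have hle := LinearMap.finrank_le_finrank_of_surjective (f := g) hgs
    rw [Module.finrank_baseChange, Module.finrank_baseChange] at hle
    haveI : Module.Finite (R ⧸ m.asIdeal) (V ⧸ N) := Module.Finite.of_restrictScalars_finite k _ _
    have hmul := Module.finrank_mul_finrank k (R ⧸ m.asIdeal) (V ⧸ N)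
    have hpos : 0 < Module.finrank k (R ⧸ m.asIdeal) := Module.finrank_pos
    have hd : Module.finrank (R ⧸ m.asIdeal) (V ⧸ N) ≤ 1 := by
      by_contra hcon
      push Not at hcon
      have := Nat.mul_le_mul_left (Module.finrank k (R ⧸ m.asIdeal)) hcon
      omega
    obtain ⟨w, hw⟩ := finrank_le_one_iff.mp hd
    obtain ⟨v, rfl⟩ := Submodule.Quotient.mk_surjective _ w
    refine ⟨v, fun x _ => ?_⟩
    obtain ⟨c, hc⟩ := hw (Submodule.Quotient.mk x)
    obtain ⟨r, rfl⟩ := Ideal.Quotient.mk_surjective c
    have hx : r • v - x ∈ N := (Submodule.Quotient.eq N).mp hc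
    have : x = r • v - (r • v - x) := by abel
    rw [this]
    exact sub_mem (Submodule.mem_sup_left (Submodule.mem_span_singleton.mpr ⟨r, rfl⟩))
      (Submodule.mem_sup_right hx)
  choose v hv using key
  have hcop : Pairwise (Function.onFun IsCoprime fun m : MaximalSpectrum R => m.asIdeal) :=
    fun a b hab => Ideal.isCoprime_iff_sup_eq.mpr (Ideal.IsMaximal.coprime_of_ne a.isMaximal b.isMaximal
      fun h => hab (MaximalSpectrum.ext h))
  have hε : ∀ m : MaximalSpectrum R, ∃ ε : R, ε - 1 ∈ m.asIdeal ∧
      ∀ n, n ≠ m → ε ∈ n.asIdeal := fun m => by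
    obtain ⟨x, hx⟩ := Ideal.pi_quotient_surjective hcop (Pi.single m 1)
    refine ⟨x, ?_, fun n hn => ?_⟩
    · rw [← Ideal.Quotient.eq_zero_iff_mem, map_sub, map_one]
      have := hx m
      simp only [Pi.single_eq_same] at this
      rw [sub_eq_zero]; exact this
    · rw [← Ideal.Quotient.eq_zero_iff_mem]
      have := hx n
      simpa [Pi.single_eq_of_ne hn] using this
  choose ε hε1 hε0 using hε
  refine ⟨∑ m, ε m • v m, ?_⟩
  set w := ∑ m, ε m • v m
  let S := Submodule.span R {w}
  have hsup : ∀ m : MaximalSpectrum R, (⊤ : Submodule R V) ≤ S ⊔ m.asIdeal • ⊤ := by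
    intro m
    refine (hv m).trans (sup_le (Submodule.span_le.mpr ?_) le_sup_right)
    rintro _ rfl
    have : v m = w - ((ε m - 1) • v m + ∑ n ∈ Finset.univ.erase m, ε n • v n) := by
      rw [show w = ε m • v m + ∑ n ∈ Finset.univ.erase m, ε n • v n from
        (Finset.add_sum_erase _ _ (Finset.mem_univ m)).symm, sub_smul, one_smul]
      abel
    rw [SetLike.mem_coe, this]
    refine sub_mem (Submodule.mem_sup_left (Submodule.mem_span_singleton_self w))
      (Submodule.mem_sup_right (add_mem ?_ (Submodule.sum_mem _ fun n hn => ?_)))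
    · exact Submodule.smul_mem_smul (hε1 m) Submodule.mem_top
    · exact Submodule.smul_mem_smul (hε0 n m (Finset.ne_of_mem_erase hn).symm) Submodule.mem_top
  by_contra hne
  obtain ⟨m, hm, hle⟩ := Ideal.exists_le_maximal (Submodule.colon S Set.univ) fun h => hne (by
    rw [eq_top_iff]
    intro x _
    have := Submodule.mem_colon.mp (show (1 : R) ∈ Submodule.colon S Set.univ by rw [h]; exact Submodule.mem_top) x trivial
    rwa [one_smul] at this)
  have h1 : (⊤ : Submodule R (V ⧸ S)) ≤ m • ⊤ := by
    rw [← Submodule.range_mkQ S, ← Submodule.map_top, ← Submodule.map_smul'']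
    refine (Submodule.map_mono (hsup ⟨m, hm⟩)).trans ?_
    rw [Submodule.map_sup, Submodule.mkQ_map_self, bot_sup_eq]
  obtain ⟨r, hr1, hr0⟩ := Submodule.exists_sub_one_mem_and_smul_eq_zero_of_fg_of_le_smul m ⊤
    Module.Finite.fg_top h1
  have hrm : r ∈ m := hle (Submodule.mem_colon.mpr fun x _ => by
    rw [← Submodule.Quotient.mk_eq_zero, Submodule.Quotient.mk_smul]
    exact hr0 _ Submodule.mem_top)
  exact hm.ne_top (m.eq_top_iff_one.mpr (by simpa using sub_mem hrm hr1))

end Groth.Agent.Lib.PicFieldExt
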