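import Groth.Agent.Lib.ZarCoh.FlatBC.Main
import Groth.Agent.Lib.Ample.GenLocus

/-!
# Flat base change for global sections, in sections form
-/

set_option autoImplicit false
set_option linter.style.haveILetI false
universe u

open CategoryTheory CategoryTheory.Limits CategoryTheory.Abelian AlgebraicGeometry Opposite
open TopologicalSpace
open Groth.Agent.Lib Groth.Agent.Lib.ZarCoh Groth.Agent.Lib.ZarCoh.Basic
open scoped TensorProduct
open ZarCoh.FlatBC ZarCoh.FlatBC.Main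

namespace Groth.Agent.Lib.PicFieldExt

variable {A B : Type u} [CommRing A] [CommRing B] [Algebra A B]
variable {X X' : Scheme.{u}} {p : X ⟶ Spec (CommRingCat.of A)} {p' : X' ⟶ Spec (CommRingCat.of B)}
variable {g' : X' ⟶ X}

include g' in
theorem exists_sections_bijection
    (h : IsPullback g' p' p (Spec.map (CommRingCat.ofHom (algebraMap A B)))) (M : X.Modules)
    [M.IsQuasicoherent] [Module.Flat A B] [CompactSpace X] [QuasiSeparatedSpace X] :
    letI : Module A Γ(M, ⊤) := Module.compHom _ (baseMap p ⊤)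
    ∃ Ψ : B ⊗[A] Γ(M, ⊤) →+ Γ((Scheme.Modules.pullback g').obj M, g' ⁻¹ᵁ ⊤),
      Function.Bijective Ψ ∧ ∀ (b : B) (n : Γ(M, ⊤)),
        Ψ (b ⊗ₜ n) = baseMap p' (g' ⁻¹ᵁ ⊤) b • TensorMod.Pullback.unitSec g' M n := by
  let U : X.Opens := ⊤
  let V := g' ⁻¹ᵁ U
  let N := (Scheme.Modules.pullback g').obj M
  letI : Module A Γ(M, U) := Module.compHom _ (baseMap p U)
  let := actModule (ρ p M) (Zs.obj U) 0
  let e₀ : Ext.{u} (Zs.obj U) (Coh.toAb M) 0 ≃ Γ(M, U) :=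
    ((Equiv.ofBijective _ (Ext.mk₀_bijective (Zs.obj U) (Coh.toAb M))).symm).trans
      (homEquiv U (Coh.toAb M))
  have he₀ : ∀ g, e₀ (Ext.mk₀ g) = homEquiv U (Coh.toAb M) g := fun g =>
    congrArg (homEquiv U (Coh.toAb M)) ((Equiv.ofBijective _ _).symm_apply_apply g)
  let e : Ext.{u} (Zs.obj U) (Coh.toAb M) 0 ≃ₗ[A] Γ(M, U) :=
    { e₀ with
      map_add' := fun x y => by
        obtain ⟨x, rfl⟩ := (Ext.mk₀_bijective _ _).2 x
        obtain ⟨y, rfl⟩ := (Ext.mk₀_bijective _ _).2 y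
        show e₀ _ = e₀ _ + e₀ _
        rw [← Ext.mk₀_add, he₀, he₀, he₀]
        exact homEquiv_add x y
      map_smul' := fun a x => by
        obtain ⟨x, rfl⟩ := (Ext.mk₀_bijective _ _).2 x
        show e₀ ((Ext.mk₀ x).comp (Ext.mk₀ (ρ p M a)) (add_zero 0)) = _ • e₀ _
        rw [Ext.mk₀_comp_mk₀, he₀, he₀, homEquiv_comp]
        rfl }
  let E : Ext.{u} (Zs.obj U) (Coh.toAb ((Coh.push g').obj N)) 0 ≃ Γ(N, V) :=
    ((Equiv.ofBijective _ (Ext.mk₀_bijective (Zs.obj U) _)).symm).trans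
      (homEquiv U (Coh.toAb ((Coh.push g').obj N)))
  have hE : ∀ g, E (Ext.mk₀ g) = homEquiv U (Coh.toAb ((Coh.push g').obj N)) g := fun g =>
    congrArg (homEquiv U (Coh.toAb ((Coh.push g').obj N))) ((Equiv.ofBijective _ _).symm_apply_apply g)
  let E' : Ext.{u} (Zs.obj U) (Coh.toAb ((Coh.push g').obj N)) 0 →+ Γ(N, V) :=
    AddMonoidHom.mk' E fun x y => by
      obtain ⟨x, rfl⟩ := (Ext.mk₀_bijective _ _).2 x
      obtain ⟨y, rfl⟩ := (Ext.mk₀_bijective _ _).2 y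
      rw [← Ext.mk₀_add, hE, hE, hE]
      exact homEquiv_add x y
  refine ⟨E'.comp ((Φ (ρ p M) B (σ p' g' M) (σ_smul h M) (Zs.obj U) 0).comp
      (e.symm.toLinearMap.lTensor B).toAddMonoidHom), ?_, fun b n => ?_⟩
  · exact E.bijective.comp ((bij_top h M 0).comp (LinearEquiv.lTensor B e.symm).bijective)
  · obtain ⟨g, hg⟩ := (Ext.mk₀_bijective _ _).2 (e.symm n)
    have hn : n = homEquiv U (Coh.toAb M) g := by
      rw [← he₀, hg]
      exact (e.apply_symm_apply n).symm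
    show E (Φ (ρ p M) B (σ p' g' M) (σ_smul h M) (Zs.obj U) 0 (b ⊗ₜ e.symm n)) = _
    rw [← hg, Φ_tmul, Ext.mk₀_comp_mk₀, hE, homEquiv_comp, hn]
    rfl

end Groth.Agent.Lib.PicFieldExt
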